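import Groth.Prelude.Def_FlatCA
import Mathlib.RingTheory.Ideal.AssociatedPrime.Finiteness
import Mathlib.RingTheory.Ideal.AssociatedPrime.Localization
import Mathlib.RingTheory.Ideal.MinimalPrime.Localization
import Mathlib.RingTheory.Localization.Ideal
import Mathlib.RingTheory.Finiteness.Ideal

/-! Elementary calculus of weakly associated primes (primes minimal over an annihilator). -/

set_option autoImplicit false
set_option linter.style.haveILetI false

universe u v

namespace Groth.Agent.WeakAssLib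

variable {R : Type u} [CommRing R]

/-- If `x` lies in every prime between `I` and `p`, then `s * x ^ n ∈ I` for some `s ∉ p`. -/
theorem exists_mul_pow_mem (I p : Ideal R) [p.IsPrime] (x : R)
    (h : ∀ Q : Ideal R, Q.IsPrime → I ≤ Q → Q ≤ p → x ∈ Q) :
    ∃ s, s ∉ p ∧ ∃ n : ℕ, s * x ^ n ∈ I := by
  by_contra hcon
  push_neg at hcon
  let S : Submonoid R := p.primeCompl ⊔ Submonoid.powers x
  have hdis : Disjoint (I : Set R) (S : Set R) := by
    rw [Set.disjoint_left]
    intro a ha haS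
    obtain ⟨s, hs, _, ⟨n, rfl⟩, rfl⟩ := Submonoid.mem_sup.1 haS
    exact hcon s hs n ha
  obtain ⟨Q, hQ, hIQ, hQS⟩ := Ideal.exists_le_prime_disjoint I S hdis
  have hQp : Q ≤ p := fun a ha => by
    by_contra hap
    exact Set.disjoint_left.1 hQS ha (Submonoid.mem_sup_left (show a ∈ p.primeCompl from hap))
  exact Set.disjoint_left.1 hQS (h Q hQ hIQ hQp)
    (Submonoid.mem_sup_right (Submonoid.mem_powers x))

/-- A prime is minimal over `I` iff it contains `I` and is locally contained in the radical. -/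
theorem mem_minimalPrimes_iff (I p : Ideal R) :
    p ∈ I.minimalPrimes ↔ p.IsPrime ∧ I ≤ p ∧ ∀ x ∈ p, ∃ s, s ∉ p ∧ ∃ n : ℕ, s * x ^ n ∈ I := by
  constructor
  · intro hp
    haveI := hp.1.1
    refine ⟨hp.1.1, hp.1.2, fun x hx => exists_mul_pow_mem I p x fun Q hQ h1 h2 => ?_⟩
    exact hp.2 ⟨hQ, h1⟩ h2 hx
  · rintro ⟨hp, hI, h⟩
    refine ⟨⟨hp, hI⟩, ?_⟩
    rintro Q ⟨hQ, hIQ⟩ hQp x hx
    obtain ⟨s, hs, n, hn⟩ := h x hx
    exact hQ.mem_of_pow_mem n ((hQ.mem_or_mem (hIQ hn)).resolve_left fun hsQ => hs (hQp hsQ))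

variable {M : Type v} [AddCommGroup M] [Module R M]

theorem mem_ann (m : M) (r : R) : r ∈ (Submodule.span R {m}).annihilator ↔ r • m = 0 :=
  Submodule.mem_annihilator_span_singleton _ _

/-- `p` is minimal over the annihilator of `m`. -/
theorem mem_minimalPrimes_ann (m : M) (p : Ideal R) :
    p ∈ (Submodule.span R {m}).annihilator.minimalPrimes ↔
      p.IsPrime ∧ (∀ r : R, r • m = 0 → r ∈ p) ∧
        ∀ x ∈ p, ∃ s, s ∉ p ∧ ∃ n : ℕ, (s * x ^ n) • m = 0 := by
  simp only [mem_minimalPrimes_iff, mem_ann, SetLike.le_def]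

theorem mem_weakAss_iff (p : Ideal R) :
    p ∈ FlatCA.weakAss R M ↔ p.IsPrime ∧ ∃ m : M, (∀ r : R, r • m = 0 → r ∈ p) ∧
      ∀ x ∈ p, ∃ s, s ∉ p ∧ ∃ n : ℕ, (s * x ^ n) • m = 0 := by
  constructor
  · rintro ⟨m, hm⟩
    obtain ⟨h1, h2, h3⟩ := (mem_minimalPrimes_ann m p).1 hm
    exact ⟨h1, m, h2, h3⟩
  · rintro ⟨h1, m, h2, h3⟩
    exact ⟨m, (mem_minimalPrimes_ann m p).2 ⟨h1, h2, h3⟩⟩

/-- An element of `S⁻¹M` has the same weakly associated primes as its numerator, away from `S`. -/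
theorem weakAss_localized_iff (S : Submonoid R) (p : Ideal R) (hS : Disjoint (S : Set R) (p : Set R)) :
    p ∈ FlatCA.weakAss R (LocalizedModule S M) ↔ p ∈ FlatCA.weakAss R M := by
  have hS' : ∀ t : S, (t : R) ∉ p := fun t h => Set.disjoint_left.1 hS t.2 h
  have key : ∀ (m : M) (s : S) (r : R),
      r • LocalizedModule.mk m s = 0 ↔ ∃ t : S, ((t : R) * r) • m = 0 := by
    intro m s r
    rw [LocalizedModule.smul'_mk, ← LocalizedModule.zero_mk s, LocalizedModule.mk_eq]
    constructor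
    · rintro ⟨t, ht⟩
      refine ⟨t * s, ?_⟩
      simp only [smul_zero, Submonoid.smul_def] at ht
      rw [Submonoid.coe_mul, mul_smul, mul_smul]
      exact ht
    · rintro ⟨t, ht⟩
      refine ⟨t, ?_⟩
      simp only [smul_zero, Submonoid.smul_def]
      rw [smul_comm (t : R) (s : R), smul_smul (t : R) r, ht, smul_zero]
  rw [mem_weakAss_iff, mem_weakAss_iff]
  refine and_congr_right fun hp => ⟨?_, ?_⟩
  · rintro ⟨x, h1, h2⟩
    induction x using LocalizedModule.induction_on with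
    | _ m s =>
      refine ⟨m, fun r hr => h1 r ((key m s r).2 ⟨1, by simp [hr]⟩), fun x hx => ?_⟩
      obtain ⟨a, ha, n, hn⟩ := h2 x hx
      obtain ⟨t, ht⟩ := (key m s _).1 hn
      exact ⟨(t : R) * a, fun h => (hp.mem_or_mem h).elim (hS' t) ha, n, by rwa [mul_assoc]⟩
  · rintro ⟨m, h1, h2⟩
    refine ⟨LocalizedModule.mk m 1, fun r hr => ?_, fun x hx => ?_⟩
    · obtain ⟨t, ht⟩ := (key m 1 r).1 hr
      exact (hp.mem_or_mem (h1 _ ht)).resolve_left (hS' t)
    · obtain ⟨a, ha, n, hn⟩ := h2 x hx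
      exact ⟨a, ha, n, (key m 1 _).2 ⟨1, by simp [hn]⟩⟩

section Algebra

variable {A : Type u} [CommRing A] [Algebra R A] {N : Type v} [AddCommGroup N] [Module A N]
  [Module R N] [IsScalarTower R A N]

theorem ann_eq_comap (x : N) :
    (Submodule.span R {x}).annihilator = (Submodule.span A {x}).annihilator.comap (algebraMap R A) := by
  ext r
  simp [mem_ann, Ideal.mem_comap, algebraMap_smul]

/-- Weakly associated primes of a module over a localization. -/
theorem weakAss_isLocalization (S : Submonoid R) [IsLocalization S A] :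
    FlatCA.weakAss R N = Ideal.comap (algebraMap R A) '' FlatCA.weakAss A N := by
  ext p
  constructor
  · rintro ⟨x, hx⟩
    obtain ⟨hp, h1, h2⟩ := (mem_minimalPrimes_iff _ _).1 hx
    rw [ann_eq_comap (A := A)] at h1 h2
    have hdis : Disjoint (S : Set R) (p : Set R) := by
      rw [Set.disjoint_left]
      intro s hs hsp
      obtain ⟨u, hu, n, hn⟩ := h2 s hsp
      apply hu (h1 ?_)
      rw [Ideal.mem_comap, map_mul, map_pow] at hn
      rw [Ideal.mem_comap]
      exact (Ideal.mul_unit_mem_iff_mem _ ((IsLocalization.map_units A ⟨s, hs⟩).pow n)).1 hn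
    have hpc : (Ideal.map (algebraMap R A) p).comap (algebraMap R A) = p :=
      IsLocalization.under_map_of_isPrime_disjoint S A hp hdis
    refine ⟨Ideal.map (algebraMap R A) p, ⟨x, (mem_minimalPrimes_iff _ _).2
      ⟨IsLocalization.isPrime_of_isPrime_disjoint S A p hp hdis, ?_, ?_⟩⟩, hpc⟩
    · intro a ha
      obtain ⟨r, s, rfl⟩ := IsLocalization.exists_mk'_eq S a
      rw [IsLocalization.mk'_mem_iff] at ha ⊢
      exact Ideal.mem_map_of_mem _ (h1 ha)
    · intro a ha
      obtain ⟨r, s, rfl⟩ := IsLocalization.exists_mk'_eq S a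
      rw [IsLocalization.mk'_mem_iff, ← Ideal.mem_comap, hpc] at ha
      obtain ⟨u, hu, n, hn⟩ := h2 r ha
      refine ⟨algebraMap R A u, fun h => hu (by rwa [← hpc, Ideal.mem_comap]), n, ?_⟩
      have e : IsLocalization.mk' A r s = algebraMap R A r * IsLocalization.mk' A 1 s := by
        rw [IsLocalization.mul_mk'_eq_mk'_of_mul, mul_one]
      rw [e, mul_pow, ← mul_assoc, ← map_pow, ← map_mul]
      exact Ideal.mul_mem_right _ _ hn
  · rintro ⟨Q, ⟨x, hx⟩, rfl⟩
    obtain ⟨hQ, h1, h2⟩ := (mem_minimalPrimes_iff _ _).1 hx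
    refine ⟨x, (mem_minimalPrimes_iff _ _).2 ⟨hQ.comap _, ?_, ?_⟩⟩
    · rw [ann_eq_comap (A := A)]
      exact Ideal.comap_mono h1
    · intro r hr
      obtain ⟨a, ha, n, hn⟩ := h2 _ (Ideal.mem_comap.1 hr)
      obtain ⟨u, s, rfl⟩ := IsLocalization.exists_mk'_eq S a
      rw [IsLocalization.mk'_mem_iff] at ha
      refine ⟨u, ha, n, ?_⟩
      rw [ann_eq_comap (A := A), Ideal.mem_comap, map_mul, map_pow]
      have := Ideal.mul_mem_left _ (algebraMap R A s) hn
      rwa [← mul_assoc, IsLocalization.mk'_spec'] at this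

end Algebra

end Groth.Agent.WeakAssLib
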